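import Cfsg.Agent.Lib.BD.Main
import Cfsg.Agent.Lib.GW.Count
import Cfsg.Agent.Lib.GW.DG
import Cfsg.Agent.Lib.H1.StC
import Cfsg.Agent.Lib.H6.GL2Fus

/-!
# Abelian Sylow 2-subgroups: general lemmas and `PSL(2, q)`
-/

set_option autoImplicit false
set_option linter.unusedVariables false
set_option linter.unusedSectionVars false

namespace Cfsg.Agent.AB

open Subgroup Cfsg.Agent.FT Cfsg.Agent.GW
open Cfsg.Agent.H6 hiding Op cent_sup fit_le le_fit
open scoped commutatorElement MatrixGroups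

variable {G : Type*} [Group G] [Finite G] {A E H K L M N P R S T V X : Subgroup G} {q : ℕ}
  {a b c d g k n s t u v w x y z : G}

/-- All 2-subgroups are abelian. -/
def Ab2 (G : Type*) [Group G] : Prop := ∀ P : Subgroup G, IsPGroup 2 P → IsMulCommutative P

/-- The `Z*`-theorem for abelian Sylow subgroups. -/
theorem zs (hT : Syl 2 T X) (hc : IsMulCommutative T) (hO : OO X = ⊥) (hz : z ∈ T)
    (h : X ⊓ 𝒩(T) ≤ 𝒞[z]) : X ≤ 𝒞[z] := fun g hg => by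
  have h1 := zstar_pow_in (syl_iff_sylIn.1 hT) hz (fun k g hg hk => by
    obtain ⟨n, hn, e⟩ := Burnside_fusion (x := z ^ k) Nat.prime_two hT hg
      ((comm_iff.1 hc).trans (cent_le_cent1 (pow_mem hz k))) ((comm_iff.1 hc).trans (cent_le_cent1 hk))
    rw [e, ← conj_pow, mem_cent1.1 (h hn), mul_inv_cancel_right]) hg
  rw [← Op'_eq_map Nat.prime_two, show Op' 2 X = ⊥ from hO, mem_bot, mul_inv_eq_one,
    mul_inv_eq_iff_eq_mul] at h1
  exact mem_cent1.2 h1.symm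

/-- A simple group with abelian Sylow 2-subgroups and a strongly embedded subgroup. -/
theorem se_cent [IsSimpleGroup G] (hab : Ab2 G) (hH : IsStronglyEmbedded H) (ht : orderOf t = 2) :
    IsPGroup 2 𝒞[t] := by
  obtain ⟨Q, D, r, h, hQ⟩ := BD.bender_simple hH
  obtain ⟨-, s, hs, c | c | c⟩ := h.concl
  rotate_left
  · exact absurd (hab Q hQ) c.1
  · exact absurd (hab Q hQ) c.1
  obtain ⟨h0, h3⟩ := c
  have hD := h.D_eq_K fun x hx h1 => by
    obtain ⟨a, ha, rfl⟩ := h.K_trans hs.mem_Q0 hs.ne (h0.le hx) h1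
    rw [(h.ff_s hs h3 ha).2.2]
    exact mul_mem ha ha
  obtain ⟨g, -, hx⟩ := h.conj_into_Q (mem_top t) (mul_self_of_orderOf_two ht)
  have h1 : g⁻¹ * t * g ≠ 1 := fun e => ne_one_of_orderOf_two ht (by
    rwa [← inv_inv g, inv_inv g⁻¹, conj_eq_one_iff] at e)
  have h2 : 𝒞[g⁻¹ * t * g] ≤ Q := fun y hg => by
    obtain ⟨y, hy, d, hd, rfl⟩ := h.sdp.exists_mul (h.cent_le hx h1 (mem_top y) (mem_cent1.1 hg))
    by_cases e : d = 1
    · rwa [e, mul_one]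
    exact absurd (semiReg_iff.1 h.semiReg_K d (hD.le hd) e _ hx (mem_cent1.1 ((mul_mem_cancel_left
      (mem_cent1.2 (h.Q0_comm (h0.le hx) hy).symm)).1 hg))) h1
  have h4 := isPGroup_cj g (hQ.to_le h2)
  rwa [cj_centralizer_singleton, show g * (g⁻¹ * t * g) * g⁻¹ = t by group] at h4

theorem OO_eq_bot (hn : NormalIn L X) (hc : X ⊓ 𝒞(L) = ⊥) (hO : OO L = ⊥) : OO X = ⊥ := by
  have h1 : OO X ⊓ L = ⊥ := eq_bot_iff.2 (hO ▸ le_OO ⟨inf_le_right, H1.le_normalizer_inf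
    (hn.le.trans (le_norm_OO X)) le_normalizer⟩ (odd_of_le (odd_OO X) inf_le_left))
  refine eq_bot_iff.2 (hc ▸ le_inf (core_le _ _) (commutator_eq_bot_iff.1 (eq_bot_iff.2 (h1 ▸ ?_))))
  exact le_inf (commutator_le_left (hn.le.trans (le_norm_OO X)))
    (commutator_le_right ((core_le _ _).trans hn.norm))

section L2

theorem exists_cov (h : IsL2 L q) : ∃ (F : Type) (_ : Field F) (_ : Fintype F)
    (ι : SL(2, F) →* G), Fintype.card F = q ∧ Odd q ∧ Cov ι ∧ ι.range = L ∧ (2 : F) ≠ 0 := by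
  obtain ⟨F, _, _, hq, ho, ⟨e⟩⟩ := h
  refine ⟨F, _, _, L.subtype.comp (e.symm.toMonoidHom.comp (QuotientGroup.mk' _)), hq, ho,
    fun A => ?_, ?_, fun e => ?_⟩
  · simp only [MonoidHom.comp_apply, coe_subtype, OneMemClass.coe_eq_one, MulEquiv.coe_toMonoidHom,
      EmbeddingLike.map_eq_one_iff, QuotientGroup.mk'_apply, QuotientGroup.eq_one_iff,
      Matrix.SpecialLinearGroup.mem_center_iff, Fintype.card_fin, sq, mul_self_eq_one_iff]
    constructor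
    · rintro ⟨r, rfl | rfl, e⟩ <;> rw [GW.mt, ← e] <;> simp only [map_one, map_neg, true_or, or_true]
    · rintro (e | e)
      · exact ⟨1, Or.inl rfl, by simpa [GW.mt] using e.symm⟩
      · exact ⟨-1, Or.inr rfl, by rw [map_neg, map_one]; exact e.symm⟩
  · rw [MonoidHom.range_comp, MonoidHom.range_eq_top.2
      (e.symm.surjective.comp (QuotientGroup.mk'_surjective _)), ← MonoidHom.range_eq_map,
      range_subtype]
  · have : CharP F 2 := CharTwo.of_one_ne_zero_of_two_eq_zero one_ne_zero e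
    have := FiniteField.even_card_of_char_two (ringChar.eq F 2)
    rw [Nat.odd_iff] at ho
    omega

/-- An abelian Sylow 2-subgroup of `PSL(2, q)` is a four-group. -/
theorem exists_four (hab : Ab2 G) (h : IsL2 L q) : ∃ a b, Two a b ∧ Syl 2 (V4 a b) L := by
  obtain ⟨F, _, _, ι, rfl, ho, hι, hr, h2⟩ := exists_cov h
  obtain ⟨U, k, x, y, hU, m⟩ := exists_mc_SL2 (F := F) (Nat.odd_iff.1 ho)
  have h1 : Syl 2 (U.map ι) L := by
    have := (syl_iff_sylIn.2 hU).map ι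
    rwa [← MonoidHom.range_eq_map, hr] at this
  have hsq : ∀ A, ι A = 1 → A * A = 1 := fun A hA => mt_inj (by
    rcases (hι A).1 hA with e | e <;> simp [mt_mul, e, mt_one])
  have hx : x ∈ U := (m.mem_iff x).2 ⟨1, Or.inl (by simp)⟩
  have hy : y ∈ U := (m.mem_iff y).2 ⟨0, Or.inr (by simp)⟩
  have hc := comm_mul (hab _ h1.isPGroup) (mem_map_of_mem ι hx) (mem_map_of_mem ι hy)
  have h3 : ι x * ι x = 1 := by
    have := congrArg ι m.conj
    rw [map_mul, map_mul, ← hc, map_inv, mul_inv_cancel_right] at this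
    simp only [mul_zero, zero_sub, zpow_neg, zpow_one, map_inv] at this
    exact mul_eq_one_iff_eq_inv.2 this
  have h4 : orderOf x = 4 := by
    have h5 : x ^ 4 = 1 := by
      have := hsq (x * x) (by rw [map_mul, h3])
      rw [← this]; simp [pow_succ, mul_assoc]
    have := Nat.le_of_dvd (by norm_num) (orderOf_dvd_of_pow_eq_one h5)
    have h6 := m.ord
    have := Nat.two_pow_pos k
    omega
  have h5 : x * x ≠ 1 := fun e => by
    have := orderOf_dvd_of_pow_eq_one (x := x) (n := 2) (by rwa [sq])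
    rw [h4] at this; omega
  have h6 : (2 ^ k : ℕ) = 1 := by have := m.ord; omega
  have h7 : y * y = x * x := by rw [m.sq, h6]; simp [zpow_ofNat, sq]
  have h8 : ∀ A, ι A = 1 → A ∈ zpowers x := fun A hA => by
    rcases sl2_eq_of_mul_self h2 (hsq A hA) with e | e
    · exact e ▸ one_mem _
    · have := (sl2_eq_of_mul_self h2 (hsq (x * x) (by rw [map_mul, h3]))).resolve_left h5
      exact e ▸ this ▸ mul_mem (mem_zpowers x) (mem_zpowers x)
  have hT : Two (ι x) (ι y) := ⟨orderOf_eq_two h3 fun e => h5 (hsq x e),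
    orderOf_eq_two (by rw [← map_mul, h7, map_mul, h3]) fun e => m.not_mem (h8 y e),
    fun e => m.not_mem ((mul_mem_cancel_left (inv_mem (mem_zpowers x))).1 (h8 _ (by simp [e]))), hc⟩
  refine ⟨_, _, hT, ?_⟩
  convert h1 using 1
  refine le_antisymm ((closure_le _).2 ?_) ?_
  · rintro _ (rfl | rfl)
    exacts [mem_map_of_mem ι hx, mem_map_of_mem ι hy]
  · rintro _ ⟨g, hg, rfl⟩
    obtain ⟨i, rfl | rfl⟩ := (m.mem_iff g).1 hg
    · rw [map_zpow]; exact zpow_mem hT.a_mem i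
    · rw [map_mul, map_zpow]; exact mul_mem (zpow_mem hT.a_mem i) hT.b_mem

theorem exists_torus (hab : Ab2 G) (h : IsL2 L q) (hc : L ⊓ 𝒞(L) = ⊥) (hv : v ∈ L)
    (ho : orderOf v = 2) : ∃ T, Torus L L q v T := by
  obtain ⟨a, b, h1, h2⟩ := exists_four hab h
  obtain ⟨F, _, _, ι, rfl, -, hι, hr, h3⟩ := exists_cov h
  exact Mod.exists_torus ⟨hι, hr, NormalIn.refl L, hc, h3, dy_of_syl h1.dih h2⟩ hv ho

/-- An abelian subgroup of odd order normalized by a four-group. -/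
theorem key (hab : Ab2 G) (h : IsL2 L q) (hc : L ⊓ 𝒞(L) = ⊥) (hR : R ≤ L)
    (hodd : Odd (Nat.card R)) (hcomm : IsMulCommutative R) (h1 : R ≠ ⊥) (h2 : Two a b) (ha : a ∈ L)
    (hb : b ∈ L) (ha' : a ∈ 𝒩(R)) (hb' : b ∈ 𝒩(R)) : 4 < aq q ∧ ∃ u ∈ V4 a b, u ≠ 1 ∧
      (∃ k ∈ R, k ≠ 1 ∧ k ∈ 𝒞[u]) ∧ 𝒩(L) ⊓ 𝒩(R) ≤ 𝒞[u] := by
  obtain ⟨u, hu, ho, h3⟩ : ∃ u ∈ V4 a b, orderOf u = 2 ∧ R ⊓ 𝒞[u] ≠ ⊥ := by
    by_contra e
    push Not at e
    exact h1 (eq_bot_iff.2 (h2.gen hodd ha' hb' (e a h2.a_mem h2.ha).le (e b h2.b_mem h2.hb).le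
      (e _ h2.ab_mem h2.hab).le))
  have huL : u ∈ L := (closure_le _).2 (by rintro _ (rfl | rfl) <;> assumption) hu
  obtain ⟨k, hk, k1⟩ := (R ⊓ 𝒞[u]).bot_or_exists_ne_one.resolve_left h3
  obtain ⟨T, hT⟩ := exists_torus hab h hc huL ho
  have k2 : k * k ≠ 1 := fun e => k1 (eq_one_of_odd_of_mul_self (odd_orderOf hodd hk.1) e)
  have kT : k ∈ T := by_contra fun e => k2 (hT.out k ⟨hR hk.1, hk.2⟩ e)
  have h4 : ∀ d ∈ 𝒩(L), d * u * d⁻¹ ∈ 𝒞[k] → d ∈ 𝒞[u] := fun d hd e =>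
    mem_cent1.2 (mul_inv_eq_iff_eq_mul.1 (hT.uniq k kT k2 _ (conj_mem_of_mem_normalizer hd huL)
      ((orderOf_conj d u).trans ho) e))
  have h5 : R ≤ 𝒞[u] := fun r hr => h4 r (le_normalizer (hR hr))
    (mul_mem (mul_mem (mem_cent1.2 (comm_mul hcomm hr hk.1)) (mem_cent1_comm.1 hk.2))
      (inv_mem (mem_cent1.2 (comm_mul hcomm hr hk.1))))
  refine ⟨?_, u, hu, ne_one_of_orderOf_two ho, ⟨k, hk.1, k1, hk.2⟩, fun d hd => h4 d hd.1 ?_⟩
  · rw [← (hT.card_in huL).2]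
    by_contra e
    have h6 := orderOf_dvd_card_of_mem kT
    have h7 : Nat.card T = 1 ∨ Nat.card T = 2 := by have := card_ne_zero T; omega
    refine k2 ?_
    rw [← sq]
    exact orderOf_dvd_iff_pow_eq_one.1 (h6.trans (by rcases h7 with e | e <;> simp [e]))
  · have := mem_cent1.1 (h5 (conj_mem_of_mem_normalizer (inv_mem hd.2) hk.1))
    rw [mem_cent1]
    calc d * u * d⁻¹ * k = d * (u * (d⁻¹ * k * d⁻¹⁻¹)) * d⁻¹ := by group
      _ = _ := by rw [← this]; group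

theorem aq_le (hab : Ab2 G) (h : IsL2 L q) (hc : L ⊓ 𝒞(L) = ⊥) (h2 : Two a b) (ha : a ∈ L)
    (hb : b ∈ L) (h1 : L ⊓ 𝒞[a] ≤ 𝒞[b]) : aq q ≤ 4 := by
  obtain ⟨T, hT⟩ := exists_torus hab h hc ha h2.ha
  obtain ⟨x, rfl⟩ := cyclic_iff_zpowers.1 hT.cyc
  have h3 : x * x = 1 := by_contra fun e => h2.ne (hT.uniq x (mem_zpowers x) e b hb h2.hb
    (mem_cent1_comm.1 (h1 (hT.le (mem_zpowers x))))).symm
  rw [← (hT.card_in ha).2, Nat.card_zpowers]
  have := Nat.le_of_dvd two_pos (orderOf_dvd_of_pow_eq_one (x := x) (n := 2) (by rwa [sq]))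
  omega

theorem OO_l2 (hab : Ab2 G) (h : IsL2 L q) (hc : L ⊓ 𝒞(L) = ⊥) : OO L = ⊥ := by
  by_contra e
  obtain ⟨a, b, h1, h2⟩ := exists_four hab h
  have h3 : Zc (fittingOf (OO L)) ≤ OO L := inf_le_left.trans (fit_le _)
  have h4 : L ≤ 𝒩(Zc (fittingOf (OO L))) :=
    (le_norm_OO L).trans ((norm_le_norm_fit _).trans (norm_le_norm_Zc _))
  obtain ⟨-, u, hu, u1, -, h5⟩ := key hab h hc (h3.trans (core_le _ _)) (odd_of_le (odd_OO L) h3)
    (Zc_comm _) (Zc_ne_bot (fit_nil _) (fit_ne_bot (sol_OO L) e)) h1 (h2.le h1.a_mem)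
    (h2.le h1.b_mem) (h4 (h2.le h1.a_mem)) (h4 (h2.le h1.b_mem))
  exact u1 (mem_bot.1 (hc ▸ ⟨h2.le hu, le_cent1_iff.1 ((le_inf le_normalizer h4).trans h5)⟩))

/-- A 2-group acting faithfully on `L` is inner. -/
theorem le_of_two (hab : Ab2 G) (hn : NormalIn L E) (hc : E ⊓ 𝒞(L) = ⊥) (hO : OO L = ⊥)
    (hT : Syl 2 T E) : T ≤ L := by
  have h1 : L ⊔ T ≤ E := sup_le hn.le hT.le
  have h2 : Syl 2 T (L ⊔ T) := hT.mono le_sup_right h1
  have h3 : NormalIn L (L ⊔ T) := normalIn_sup_left (hT.le.trans hn.norm)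
  have h4 : OO (L ⊔ T) = ⊥ := OO_eq_bot h3 (eq_bot_iff.2 (hc ▸ inf_le_inf_right _ h1)) hO
  have hT' := hab T hT.isPGroup
  have h5 : Hall {2} T ((L ⊔ T) ⊓ 𝒩(T)) := (hall_singleton Nat.prime_two).2
    (h2.mono (le_inf h2.le le_normalizer) inf_le_left)
  obtain ⟨D, hD⟩ := h5.exists_compl inf_le_right
  have h6 : D ≤ L := hD.pi.le_of_relIndex (hD.le.trans inf_le_left) h3.norm (by
    rw [compl_compl, relIndex_sup_of_norm (hT.le.trans hn.norm)]
    exact h5.pi.relIndex _)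
  have h7 := coprime_cent_prod (hD.le.trans inf_le_right) (PiN.coprime h5.pi hD.pi)
    (Or.inr (sol_of_pgroup hT.isPGroup))
  refine h7.ge.trans (sup_le ((commutator_mono le_rfl h6).trans
    (commutator_le_right (hT.le.trans hn.norm))) fun z hz => ?_)
  have h8 := zs h2 hT' h4 hz.1 (by
    rw [← h5.sup_eq hD]
    exact sup_le ((comm_iff.1 hT').trans (cent_le_cent1 hz.1)) (le_cent1_iff.2 hz.2))
  have : z ∈ E ⊓ 𝒞(L) := ⟨hT.le hz.1, le_cent1_iff.1 (le_sup_left.trans h8)⟩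
  rw [hc, mem_bot] at this
  exact this ▸ one_mem L

theorem exists_cyc (hab : Ab2 G) (hc : L ⊓ 𝒞(L) = ⊥) (hO : OO L = ⊥) (h1 : Two a b)
    (h2 : Syl 2 (V4 a b) L) : ∃ d ∈ L, Cyc d a b := by
  have h5 : Hall {2} (V4 a b) (L ⊓ 𝒩(V4 a b)) := (hall_singleton Nat.prime_two).2
    (h2.mono (le_inf h2.le le_normalizer) inf_le_left)
  obtain ⟨D, hD⟩ := h5.exists_compl inf_le_right
  obtain ⟨d, hd, h3⟩ : ∃ d ∈ D, d ∉ 𝒞[a] := by
    by_contra e
    push Not at e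
    have := zs h2 h1.comm_V4 hO h1.a_mem (by rw [← h5.sup_eq hD]; exact sup_le h1.le_cent_a e)
    exact h1.a_ne (mem_bot.1 (hc ▸ ⟨h2.le h1.a_mem, le_cent1_iff.1 this⟩))
  have hn := (hD.le hd).2
  have h4 : ∀ x ∈ V4 a b, x ≠ 1 → d * x * d⁻¹ ≠ x := fun x hx x1 e => h3 (cent_le_cent1 h1.a_mem
    (h1.mem_cent_of_fix hn (piN_odd.1 (hD.pi.piE hd)) hx x1
      (mem_cent1.2 (mul_inv_eq_iff_eq_mul.1 e))))
  have h6 : ∀ a' b', Two a' b' → V4 a' b' = V4 a b → d * a' * d⁻¹ = b' → Cyc d a' b' :=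
    fun a' b' T e e1 => ⟨e1, by
      rcases T.conj_cases (e ▸ hn) T.b_mem T.b_ne with e2 | e2 | e2
      · exact absurd (by rw [← conj_mul, e1, e2, T.comm]) (h4 _ (e ▸ T.ab_mem) T.left.b_ne)
      · exact absurd e2 (h4 _ (e ▸ T.b_mem) T.b_ne)
      · exact e2⟩
  rcases h1.conj_cases hn h1.a_mem h1.a_ne with e | e | e
  · exact absurd e (h4 a h1.a_mem h1.a_ne)
  · exact ⟨d, (hD.le hd).1, h6 a b h1 rfl e⟩
  · have := ((h6 a _ h1.left h1.V4_left e).inv h1.left).next h1.left.symm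
    rw [h1.ab_mul_a] at this
    exact ⟨d⁻¹, inv_mem (hD.le hd).1, this⟩

end L2

end Cfsg.Agent.AB
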