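import Cfsg.Agent.Lib.AB.A

/-!
# Abelian Sylow 2-subgroups: involution centralizers of type `2 × PSL(2, q)` are maximal
-/

set_option autoImplicit false
set_option linter.unusedVariables false
set_option linter.unusedSectionVars false

namespace Cfsg.Agent.AB

open Subgroup Cfsg.Agent.FT Cfsg.Agent.GW
open Cfsg.Agent.H6 hiding Op cent_sup fit_le le_fit
open scoped commutatorElement MatrixGroups

variable {G : Type*} [Group G] [Finite G] {A E H K L M N P R S T V X : Subgroup G} {q : ℕ}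
  {a b c d g k n s t u v w x y z : G}

/-- `C(s) = ⟨s⟩ × E` and `PSL(2, q) ≅ L ⊴ E ≤ Aut(L)`. -/
structure Cn (s : G) (E L : Subgroup G) (q : ℕ) : Prop where
  ord : orderOf s = 2
  le : E ≤ 𝒞[s]
  nmem : s ∉ E
  cover : ∀ x ∈ 𝒞[s], x ∈ E ∨ s * x ∈ E
  normal : NormalIn L E
  cent : E ⊓ 𝒞(L) = ⊥
  l2 : IsL2 L q

theorem Cn.cj (h : Cn s E L q) (g : G) : Cn (g * s * g⁻¹) (cj g E) (cj g L) q := by
  refine ⟨(orderOf_conj g s).trans h.ord, ?_, fun e => h.nmem (by simpa [mul_assoc] using mem_cj.1 e),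
    fun x hx => ?_, h.normal.map _, by rw [← cj_centralizer, ← cj_inf, h.cent, cj_bot], ?_⟩
  · rw [← cj_centralizer_singleton]; exact cj_mono g h.le
  · rw [← cj_centralizer_singleton] at hx
    exact (h.cover _ (mem_cj.1 hx)).imp mem_cj.2 fun e => mem_cj.2 (by convert e using 1; group)
  · obtain ⟨F, _, _, h1, h2, ⟨e⟩⟩ := h.l2
    exact ⟨F, _, _, h1, h2,
      ⟨(L.equivMapOfInjective _ (MulAut.conj g).injective).symm.trans e⟩⟩

theorem Cn.centL (h : Cn s E L q) : L ⊓ 𝒞(L) = ⊥ :=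
  eq_bot_iff.2 (h.cent ▸ inf_le_inf_right _ h.normal.le)

theorem Cn.le_norm (h : Cn s E L q) (hX : X ≤ E) (hn : E ≤ 𝒩(X)) : 𝒞[s] ≤ 𝒩(X) := fun x hx =>
  (h.cover x hx).elim (fun e => hn e) fun e => (mul_mem_cancel_left
    (cent_le_norm (le_cent1_iff.1 (hX.trans h.le)))).1 (hn e)

theorem Cn.mem_of_odd (h : Cn s E L q) (hx : x ∈ 𝒞[s]) (ho : Odd (orderOf x)) : x ∈ E :=
  (h.cover x hx).elim id fun e => St.mem_of_odd_of_pow_mem ho (k := 1) (by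
    convert mul_mem e e using 1
    rw [mul_assoc, ← mul_assoc x, mem_cent1.1 hx, ← mul_assoc, ← mul_assoc,
      mul_self_of_orderOf_two h.ord, one_mul, pow_one, sq])

theorem Cn.syl (h : Cn s E L q) (hab : Ab2 G) (hS : Syl 2 S ⊤) (hs : s ∈ S) :
    ∃ a b, Two a b ∧ Syl 2 (V4 a b) L ∧ V4 a b ≤ S ∧ ∀ x ∈ S, x ∈ V4 a b ∨ s * x ∈ V4 a b := by
  have h1 : S ≤ 𝒞[s] := (comm_iff.1 (hab S hS.isPGroup)).trans (cent_le_cent1 hs)
  have h2 := (hS.mono h1 le_top).inf_of_le (h.le_norm le_rfl le_normalizer) h.le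
  have h3 := le_of_two hab h.normal h.cent (OO_l2 hab h.l2 h.centL) h2
  obtain ⟨a, b, h4, h5⟩ := exists_four hab h.l2
  obtain ⟨g, hg, e⟩ := Syl.exists_cj_eq h5 (h2.mono h3 h.normal.le)
  have h6 : V4 (g * a * g⁻¹) (g * b * g⁻¹) = S ⊓ E := by
    rw [← e, H6.cj, MonoidHom.map_closure, Set.image_pair]; rfl
  exact ⟨_, _, h4.conj g, h6 ▸ h2.mono h3 h.normal.le, h6 ▸ inf_le_left, fun x hx => h6 ▸
    (h.cover x (h1 hx)).imp (fun e => ⟨hx, e⟩) fun e => ⟨mul_mem hs hx, e⟩⟩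

/-- The configuration `S = ⟨t⟩ × V`. -/
structure Cf (t : G) (E L S : Subgroup G) (q : ℕ) (a b : G) : Prop extends Cn t E L q where
  ab : Ab2 G
  syl : Syl 2 S ⊤
  mem : t ∈ S
  two : Two a b
  sylL : Syl 2 (V4 a b) L
  leS : V4 a b ≤ S
  cov : ∀ x ∈ S, x ∈ V4 a b ∨ t * x ∈ V4 a b

theorem Cf.S_le (h : Cf t E L S q a b) (hx : x ∈ S) : S ≤ 𝒞[x] :=
  (comm_iff.1 (h.ab S h.syl.isPGroup)).trans (cent_le_cent1 hx)

theorem Cf.tt (h : Cf t E L S q a b) : t * t = 1 := mul_self_of_orderOf_two h.ord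

theorem Cf.cases (h : Cf t E L S q a b) (hx : x ∈ S) :
    x = 1 ∨ x = t ∨ ∃ c, (c = 1 ∨ c = t) ∧ (x = c * a ∨ x = c * b ∨ x = c * (a * b)) := by
  rcases h.cov x hx with e | e
  · rcases h.two.mem_iff.1 e with e | e
    · exact Or.inl e
    · exact Or.inr (Or.inr ⟨1, Or.inl rfl, by simpa using e⟩)
  · have h1 : ∀ y, t * x = y → x = t * y := fun y e => by rw [← e, ← mul_assoc, h.tt, one_mul]
    rcases h.two.mem_iff.1 e with e | e
    · exact Or.inr (Or.inl (by simpa using h1 _ e))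
    · exact Or.inr (Or.inr ⟨t, Or.inr rfl, e.imp (h1 _) (Or.imp (h1 _) (h1 _))⟩)

theorem Cf.trans (h : Cf t E L S q a b) (hH : 𝒞[t] ≤ H) (hn : ¬ H ⊓ 𝒩(S) ≤ 𝒞[t]) (hs : s ∈ S)
    (h1 : s ≠ 1) : ∃ g ∈ H, g * t * g⁻¹ = s := by
  obtain ⟨d, hd, hc⟩ := exists_cyc h.ab h.centL (OO_l2 h.ab h.l2 h.centL) h.two h.sylL
  have d1 : d ∈ 𝒞[t] := h.le (h.normal.le hd)
  have d2 : d * t * d⁻¹ = t := by rw [mem_cent1.1 d1, mul_inv_cancel_right]
  have d3 : d ∈ H ⊓ 𝒩(S) := ⟨hH d1, mem_normalizer_of_conj_mem fun x hx => by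
    rcases h.cov x hx with e | e
    · exact h.leS (conj_mem_of_mem_normalizer (hc.mem_norm h.two) e)
    · have := h.leS (conj_mem_of_mem_normalizer (hc.mem_norm h.two) e)
      rwa [← conj_mul, d2, mul_mem_cancel_left h.mem] at this⟩
  set O := (fun n => n * t * n⁻¹) '' ((H ⊓ 𝒩(S) : Subgroup G) : Set G) with hO
  have o1 : Odd O.ncard := by
    rw [hO, ncard_orb]
    exact Nat.not_even_iff_odd.1 fun e => (h.syl.mono (le_inf ((h.S_le h.mem).trans hH) le_normalizer)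
      le_top).not_dvd_relIndex_of_le (h.S_le h.mem) e.two_dvd
  have o2 : ∀ x ∈ O, d * x * d⁻¹ ∈ O := by
    rintro _ ⟨n, hn, rfl⟩
    exact ⟨d * n, mul_mem d3 hn, by group⟩
  have o3 : t ∈ O := ⟨1, one_mem _, by simp⟩
  have o4 : ∀ x ∈ O, x ∈ S ∧ x ≠ 1 := by
    rintro _ ⟨n, hn, rfl⟩
    exact ⟨conj_mem_of_mem_normalizer hn.2 h.mem, fun e => ne_one_of_orderOf_two h.ord
      (conj_eq_one_iff.1 e)⟩
  have o5 : ∀ c, (c = 1 ∨ c = t) → ∀ x ∈ O, (x = c * a ∨ x = c * b ∨ x = c * (a * b)) →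
      c * a ∈ O ∧ c * b ∈ O ∧ c * (a * b) ∈ O := fun c e => by
    have e0 : d * c * d⁻¹ = c := by rcases e with rfl | rfl <;> simp [d2]
    have e1 : c * a ∈ O → c * b ∈ O := fun e => by simpa only [← conj_mul, e0, hc.ab] using o2 _ e
    have e2 : c * b ∈ O → c * (a * b) ∈ O := fun e => by
      have := o2 _ e; rwa [← conj_mul, e0, hc.bc] at this
    have e3 : c * (a * b) ∈ O → c * a ∈ O := fun e => by
      have := o2 _ e; rwa [← conj_mul, e0, hc.ca h.two] at this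
    rintro _ hx (rfl | rfl | rfl)
    exacts [⟨hx, e1 hx, e2 (e1 hx)⟩, ⟨e3 (e2 hx), hx, e2 hx⟩, ⟨e3 hx, e1 (e3 hx), hx⟩]
  have o6 : ∀ c, (c = 1 ∨ c = t) → c * a ∈ O := fun c e => by
    by_contra e1
    obtain ⟨n, hn, n1⟩ := SetLike.not_le_iff_exists.1 hn
    obtain ⟨c', e2, e3⟩ := ((h.cases (o4 _ ⟨n, hn, rfl⟩).1).resolve_left (o4 _ ⟨n, hn, rfl⟩).2).resolve_left
      fun e => n1 (mem_cent1.2 (mul_inv_eq_iff_eq_mul.1 e))
    have e4 := o5 c' e2 _ ⟨n, hn, rfl⟩ e3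
    have e5 : O = {t, c' * a, c' * b, c' * (a * b)} := by
      refine Set.Subset.antisymm (fun x hx => ?_) ?_
      · rcases (h.cases (o4 x hx).1).resolve_left (o4 x hx).2 with e5 | ⟨c'', e5, e6⟩
        · exact Or.inl e5
        · have : c'' = c' := by
            have e7 : c'' ≠ c := fun e7 => e1 (e7 ▸ (o5 _ e5 x hx e6).1)
            have e8 : c' ≠ c := fun e8 => e1 (e8 ▸ e4.1)
            rcases e with rfl | rfl <;> rcases e2 with rfl | rfl <;> rcases e5 with rfl | rfl <;>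
              first | rfl | exact absurd rfl e7 | exact absurd rfl e8
          exact Or.inr (this ▸ e6)
      · rintro _ (rfl | rfl | rfl | rfl)
        exacts [o3, e4.1, e4.2.1, e4.2.2]
    have e6 : ∀ y ∈ V4 a b, y ≠ 1 → t ≠ c' * y := fun y hy y1 e => by
      rcases e2 with rfl | rfl
      · exact h.nmem (h.normal.le (h.sylL.le (by rwa [e, one_mul])))
      · exact y1 (left_eq_mul.1 e)
    rw [e5, Set.ncard_insert_of_notMem (by
        simp [e6 _ h.two.a_mem h.two.a_ne, e6 _ h.two.b_mem h.two.b_ne,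
          e6 _ h.two.ab_mem h.two.left.b_ne]),
      Set.ncard_insert_of_notMem (by simp [h.two.ne, h.two.b_ne]),
      Set.ncard_pair (by simp [h.two.a_ne])] at o1
    exact absurd o1 (by decide)
  obtain ⟨n, hn, e⟩ : s ∈ O := by
    rcases (h.cases hs).resolve_left h1 with rfl | ⟨c, e, e1⟩
    · exact o3
    · have := o5 c e _ (o6 c e) (Or.inl rfl)
      rcases e1 with rfl | rfl | rfl
      exacts [this.1, this.2.1, this.2.2]
  exact ⟨n, hn.1, e⟩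

theorem Cf.symm (h : Cf t E L S q a b) : Cf t E L S q b a :=
  ⟨h.toCn, h.ab, h.syl, h.mem, h.two.symm, h.two.V4_symm ▸ h.sylL, h.two.V4_symm ▸ h.leS,
    h.two.V4_symm ▸ h.cov⟩

theorem Cf.left (h : Cf t E L S q a b) : Cf t E L S q a (a * b) :=
  ⟨h.toCn, h.ab, h.syl, h.mem, h.two.left, h.two.V4_left ▸ h.sylL, h.two.V4_left ▸ h.leS,
    h.two.V4_left ▸ h.cov⟩

theorem Cf.cent_eq_bot (h : Cf t E L S q a b) (hg : g * t * g⁻¹ = a) (hK : Odd (Nat.card K))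
    (hn : 𝒞[t] ≤ 𝒩(K)) (hi : ∀ x ∈ K, t * x * t⁻¹ = x⁻¹) : K ⊓ 𝒞[a] = ⊥ := by
  by_contra e
  have h1 := h.toCn.cj g
  rw [hg] at h1
  generalize cj g E = E' at h1
  generalize cj g L = L' at h1
  have aS := h.leS h.two.a_mem
  obtain ⟨a', b', T, h2, h3, h4⟩ := h1.syl h.ab h.syl aS
  have h5 := h1.le_norm h1.normal.le h1.normal.norm
  have h6 : 𝒞[t] ⊓ 𝒞[a] ≤ 𝒩(K ⊓ 𝒞[a]) :=
    H1.le_normalizer_inf (inf_le_left.trans hn) (inf_le_right.trans le_normalizer)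
  have h7 : S ≤ 𝒩(K ⊓ 𝒞[a]) := (le_inf (h.S_le h.mem) (h.S_le aS)).trans h6
  have h8 : K ⊓ 𝒞[a] ≤ L' := fun x hx => by
    obtain ⟨r, hr, e⟩ : ∃ r ∈ L', r * x * r⁻¹ = x⁻¹ := (h4 t h.mem).elim
      (fun e => ⟨t, h2.le e, hi x hx.1⟩) fun e => ⟨_, h2.le e, inverts_mul_of_cent' (hi x hx.1) hx.2⟩
    refine St.mem_of_odd_of_pow_mem (odd_orderOf hK hx.1) (k := 1) (inv_mem_iff.1 ?_)
    convert mul_mem hr (conj_mem_of_mem_normalizer (h5 hx.2) (inv_mem hr)) using 1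
    rw [← mul_assoc, ← mul_assoc, e]; group
  obtain ⟨q1, u, hu, u1, ⟨k, hk, k1, ku⟩, h9⟩ := key h.ab h1.l2 h1.centL h8 (odd_of_le hK inf_le_left)
    (comm_of_le (comm_of_inverts hi) inf_le_left) e T (h2.le T.a_mem) (h2.le T.b_mem)
    (h7 (h3 T.a_mem)) (h7 (h3 T.b_mem))
  have kt : k ∉ 𝒞[t] := fun e => k1 (eq_one_of_inverts_of_cent (odd_orderOf hK hk.1) (hi k hk.1) e)
  refine q1.not_ge (aq_le h.ab h.l2 h.centL h.two (h.sylL.le h.two.a_mem) (h.sylL.le h.two.b_mem)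
    fun d hd => mem_cent1_comm.1 ?_)
  have d1 := h.le (h.normal.le hd.1)
  have d2 := mem_cent1_comm.1 (h9 ⟨h5 hd.2, h6 ⟨d1, hd.2⟩⟩)
  replace d1 := mem_cent1_comm.1 d1
  have d3 := mem_cent1_comm.1 hd.2
  rcases (h.cases (h3 hu)).resolve_left u1 with rfl | ⟨c, e1, e2⟩
  · exact absurd ku kt
  have d4 : c ∈ 𝒞[d] := by rcases e1 with rfl | rfl; exacts [one_mem _, d1]
  rcases e2 with rfl | rfl | rfl
  · rcases e1 with rfl | rfl
    · exact absurd (h1.normal.le (h2.le (by rwa [one_mul] at hu))) h1.nmem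
    · exact absurd (mem_cent1_comm.1 ((mul_mem_cancel_right (mem_cent1_comm.1 hk.2)).1
        (mem_cent1_comm.1 ku))) kt
  · exact (mul_mem_cancel_left d4).1 d2
  · exact (mul_mem_cancel_left d3).1 ((mul_mem_cancel_left d4).1 d2)

theorem Cn.coatom [IsSimpleGroup G] (h : Cn t E L q) (hab : Ab2 G) : IsCoatom 𝒞[t] := by
  have t1 := ne_one_of_orderOf_two h.ord
  obtain ⟨S, hS, tS⟩ := H1.exists_isSylowIn_ge (isPGroup_zpowers_of_orderOf_eq h.ord) le_top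
  obtain ⟨a, b, h1, h2, h3, h4⟩ := h.syl hab hS (zpowers_le.1 tS)
  have f : Cf t E L S q a b := ⟨h, hab, hS, zpowers_le.1 tS, h1, h2, h3, h4⟩
  have n2 : ¬ IsPGroup 2 𝒞[t] := fun e => h1.a_ne (mem_bot.1 (h.centL ▸ ⟨h2.le h1.a_mem,
    comm_iff.1 (hab L (e.to_le (h.normal.le.trans h.le))) (h2.le h1.a_mem)⟩))
  have ne : 𝒞[t] ≠ ⊤ := fun e => by
    have h5 : NormalIn (zpowers t) ⊤ := ⟨le_top, e ▸ cent1_le_norm_zpowers⟩
    rcases h5.normal.eq_bot_or_eq_top with e1 | e1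
    · exact t1 (zpowers_eq_bot.1 e1)
    · exact n2 ((isPGroup_zpowers_of_orderOf_eq h.ord).to_le (le_top.trans e1.ge))
  have O0 : OO (⊤ : Subgroup G) = ⊥ := (normal_OO ⊤).normal.eq_bot_or_eq_top.resolve_right fun e =>
    odd_card_iff.1 (odd_OO ⊤) t (e.ge (mem_top t)) h.ord
  have tr := fun s hs s1 => f.trans (s := s) le_top (fun e => ne (eq_top_iff.2
    (zs hS (hab S hS.isPGroup) O0 f.mem e))) hs s1
  refine ⟨ne, fun M hM => by_contra fun hM' => ?_⟩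
  have m1 : 𝒞[t] ≤ 𝒩(OO M) := hM.le.trans (le_norm_OO M)
  have m2 : OO M ⊓ 𝒞[t] = ⊥ := by
    have : OO M ⊓ 𝒞[t] ≤ E := fun x hx => h.mem_of_odd hx.2 (odd_orderOf (odd_OO M) hx.1)
    exact eq_bot_iff.2 (OO_eq_bot h.normal h.cent (OO_l2 hab h.l2 h.centL) ▸ le_OO ⟨this,
      H1.le_normalizer_inf (h.le.trans m1) (h.le.trans le_normalizer)⟩
      (odd_of_le (odd_OO M) inf_le_left))
  have m3 : ∀ x ∈ OO M, t * x * t⁻¹ = x⁻¹ := fun x =>
    inverts_of_fpf f.tt (odd_OO M) (m1 (mem_cent1.2 rfl)) m2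
  have m4 : ∀ a b, Cf t E L S q a b → OO M ⊓ 𝒞[a] ≤ ⊥ := fun a b f => by
    obtain ⟨g, -, e⟩ := tr a (f.leS f.two.a_mem) f.two.a_ne
    exact (f.cent_eq_bot e (odd_OO M) m1 m3).le
  have m5 : OO M = ⊥ := eq_bot_iff.2 (h1.gen (odd_OO M) (m1 (f.S_le f.mem (h3 h1.a_mem)))
    (m1 (f.S_le f.mem (h3 h1.b_mem))) (m4 _ _ f) (m4 _ _ f.symm) (m4 _ _ f.left.symm))
  have m6 : S ≤ M := (f.S_le f.mem).trans hM.le
  have tr' := fun s hs s1 => f.trans (s := s) hM.le (fun e => hM.not_ge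
    (zs (hS.mono m6 le_top) (hab S hS.isPGroup) m5 f.mem e)) hs s1
  refine n2 (se_cent hab (se_of_mem hM' ⟨t, m6 f.mem, h.ord⟩ fun x g x1 x2 =>
    St.se_of_abelian hS (fun n hn => ?_) (hab S hS.isPGroup) (fun z hz z2 => ?_) x1 (mem_top x) x2
      (mem_top g)) h.ord)
  · obtain ⟨m, hm, e⟩ := tr' _ (conj_mem_of_mem_normalizer hn.2 f.mem) fun e =>
      t1 (conj_eq_one_iff.1 e)
    refine (mul_mem_cancel_left (inv_mem hm)).1 (hM.le (mem_cent1.2 ?_))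
    calc m⁻¹ * n * t = m⁻¹ * (n * t * n⁻¹) * n := by group
      _ = _ := by rw [← e]; group
  · obtain ⟨m, hm, rfl⟩ := tr' z hz (ne_one_of_orderOf_two z2)
    rw [← cj_centralizer_singleton]
    exact inf_le_right.trans ((cj_mono m hM.le).trans (cj_eq_self_iff.2 (le_normalizer hm)).le)

end Cfsg.Agent.AB
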